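import Groth.Agent.GenFree.Scheme
import Mathlib.AlgebraicGeometry.Morphisms.Finite
import Mathlib.AlgebraicGeometry.Morphisms.Etale
import Mathlib.AlgebraicGeometry.Morphisms.QuasiFinite
import Groth.Agent.AlgSpLib.EtST

/-!
# Unramified affine morphisms of finite type are finite etale over some open of a reduced base
-/

set_option autoImplicit false
set_option backward.isDefEq.respectTransparency false
set_option backward.isDefEq.respectTransparency.types false
set_option linter.style.haveILetI false
universe u

open CategoryTheory CategoryTheory.Limits AlgebraicGeometry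

noncomputable section

namespace Groth.Agent.DMGeneric

/-- finiteness of localisations from integral multiples of generators -/
theorem finite_of_generators {A B A' B' : Type u} [CommRing A] [CommRing B] [CommRing A'] [CommRing B'] [Algebra A B]
    [Algebra A A'] [Algebra B B'] [Algebra A' B'] [Algebra A B'] [IsScalarTower A B B'] [IsScalarTower A A' B']
    (f : A) [IsLocalization.Away f A'] [IsLocalization.Away (algebraMap A B f) B'] (G : Finset B)
    (hG : Algebra.adjoin A (G : Set B) = ⊤) (hm : ∀ g ∈ G, ∃ m, m ∣ f ∧ IsIntegral A (m • g)) :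
    Module.Finite A' B' := by
  have hint : ∀ b : B, IsIntegral A' (algebraMap B B' b) := fun b => by
    have hb : b ∈ Algebra.adjoin A (G : Set B) := by rw [hG]; trivial
    induction hb using Algebra.adjoin_induction with
    | mem g hg =>
      obtain ⟨m, hmf, hmi⟩ := hm g hg
      obtain ⟨v, hv⟩ := isUnit_of_dvd_unit (map_dvd (algebraMap A A') hmf) (IsLocalization.Away.algebraMap_isUnit f)
      have h1 : IsIntegral A' (algebraMap B B' (m • g)) :=
        (hmi.map (IsScalarTower.toAlgHom A B B')).tower_top
      rw [Algebra.smul_def, map_mul, ← IsScalarTower.algebraMap_apply, IsScalarTower.algebraMap_apply A A', ← hv] at h1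
      have := (isIntegral_algebraMap (R := A') (A := B') (x := (↑v⁻¹ : A'))).mul h1
      rwa [← mul_assoc, ← map_mul, Units.inv_mul, map_one, one_mul] at this
    | algebraMap a =>
      rw [← IsScalarTower.algebraMap_apply, IsScalarTower.algebraMap_apply A A']
      exact isIntegral_algebraMap
    | add a b _ _ ha hb => rw [map_add]; exact ha.add hb
    | mul a b _ _ ha hb => rw [map_mul]; exact ha.mul hb
  haveI : Algebra.IsIntegral A' B' := ⟨fun z => by
    obtain ⟨n, b, hzb⟩ := IsLocalization.Away.surj (algebraMap A B f) z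
    obtain ⟨v, hv⟩ := (IsLocalization.Away.algebraMap_isUnit (S := A') f).pow n
    have hz : z * algebraMap A' B' (v : A') = algebraMap B B' b := by
      rw [hv, map_pow, ← IsScalarTower.algebraMap_apply, IsScalarTower.algebraMap_apply A B B']
      exact hzb
    have := (hint b).mul (isIntegral_algebraMap (R := A') (A := B') (x := (↑v⁻¹ : A')))
    rwa [← hz, mul_assoc, ← map_mul, Units.mul_inv, map_one, mul_one] at this⟩
  haveI : Algebra.FiniteType A B := ⟨⟨G, hG⟩⟩
  haveI : Algebra.FiniteType B B' := IsLocalization.finiteType_of_monoid_fg (Submonoid.powers (algebraMap A B f)) B'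
  haveI : Algebra.FiniteType A B' := Algebra.FiniteType.trans ‹Algebra.FiniteType A B› ‹_›
  haveI : Algebra.FiniteType A' B' := Algebra.FiniteType.of_restrictScalars_finiteType A A' B'
  exact Algebra.IsIntegral.finite

/-- a quasi-finite algebra of finite type over a reduced ring is finite over some nonempty basic open -/
theorem exists_finite_away {A B : Type u} [CommRing A] [CommRing B] [IsReduced A] [Nontrivial A] [Algebra A B]
    [Algebra.FiniteType A B] [Algebra.QuasiFinite A B] :
    ∃ f : A, f ≠ 0 ∧ (Localization.awayMap (algebraMap A B) f).Finite := by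
  classical
  obtain ⟨P, hP⟩ := Ideal.nonempty_minimalPrimes (I := (⊥ : Ideal A)) bot_ne_top
  haveI : P.IsPrime := hP.1.1
  let K := Localization.AtPrime P
  have hK : IsField K := IsLocalRing.isField_iff_maximalIdeal_eq.2 (by
    have h := IsLocalization.AtPrime.radical_map_of_mem_minimalPrimes (A := K) P ⊥ hP
    rw [Ideal.map_bot, IsLocalization.AtPrime.map_eq_maximalIdeal P K] at h
    rw [← h]
    exact nilradical_eq_zero K)
  letI := hK.toField
  let M := Algebra.algebraMapSubmonoid B P.primeCompl
  let BP := Localization M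
  letI : Algebra K BP := localizationAlgebra P.primeCompl B
  haveI : IsScalarTower A K BP := IsScalarTower.of_algebraMap_eq fun a => by
    rw [IsScalarTower.algebraMap_apply A B BP]
    exact (IsLocalization.map_eq (M := P.primeCompl) _ a).symm
  haveI : Algebra.QuasiFinite A BP := Algebra.QuasiFinite.of_isLocalization (S := B) M
  haveI : Algebra.QuasiFinite K BP := Algebra.QuasiFinite.of_restrictScalars A K BP
  haveI : Module.Finite K BP := Module.Finite.of_quasiFinite
  have hm : ∀ b : B, ∃ m ∈ P.primeCompl, IsIntegral A (m • b) := fun b => by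
    obtain ⟨⟨m, hm⟩, h⟩ := IsIntegral.exists_multiple_integral_of_isLocalization (R := A) P.primeCompl
      (algebraMap B BP b) (IsIntegral.of_finite K _)
    obtain ⟨m', hm', h'⟩ := IsLocalization.exists_isIntegral_smul_of_isIntegral_map (R := A) (Sₘ := BP) P.primeCompl
      (x := m • b) (by
        rw [Algebra.smul_def, map_mul, ← IsScalarTower.algebraMap_apply, ← Algebra.smul_def]
        exact h)
    exact ⟨m' * m, mul_mem hm' hm, by rwa [mul_smul]⟩
  choose m hmP hmi using hm
  obtain ⟨G, hG⟩ := Algebra.FiniteType.out (R := A) (A := B)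
  let f := ∏ b ∈ G, m b
  have hf : f ∈ P.primeCompl := prod_mem fun b _ => hmP b
  refine ⟨f, fun h => hf (by rw [h]; exact P.zero_mem), ?_⟩
  letI := (Localization.awayMap (algebraMap A B) f).toAlgebra
  haveI : IsScalarTower A (Localization.Away f) (Localization.Away (algebraMap A B f)) :=
    IsScalarTower.of_algebraMap_eq fun a => (IsScalarTower.algebraMap_apply A B _ a).trans
      (IsLocalization.Away.lift_eq f (g := (algebraMap B (Localization.Away (algebraMap A B f))).comp (algebraMap A B))
        (IsLocalization.Away.algebraMap_isUnit (algebraMap A B f)) a).symm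
  exact finite_of_generators f G hG (fun g hg => ⟨m g, Finset.dvd_prod_of_mem m hg, hmi g⟩)

/-- unramified affine morphisms of finite type over a reduced scheme are finite etale over a nonempty open -/
theorem exists_finite_etale_restrict {X U : Scheme.{u}} (h : X ⟶ U) [IsReduced U] [Nonempty U] [IsAffineHom h]
    [LocallyOfFiniteType h] [FormallyUnramified h] :
    ∃ O : U.Opens, (O : Set U).Nonempty ∧ IsFinite (h ∣_ O) ∧ Etale (h ∣_ O) := by
  obtain ⟨Ω, hΩ, hfl, hfp⟩ := GenFree.exists_dense_flat_fp h
  obtain ⟨x, hx⟩ := hΩ.nonempty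
  obtain ⟨V, hV, hxV, hVΩ⟩ := exists_isAffineOpen_mem_and_subset (X := U) (x := x) (U := Ω) hx
  haveI : Flat (h ∣_ V) := GenFree.restrict_of_le (P := @Flat) h hVΩ hfl
  haveI : LocallyOfFinitePresentation (h ∣_ V) := GenFree.restrict_of_le (P := @LocallyOfFinitePresentation) h hVΩ hfp
  haveI : FormallyUnramified (h ∣_ V) := IsZariskiLocalAtTarget.restrict (P := @FormallyUnramified) ‹_› V
  haveI : Etale (h ∣_ V) := Etale.of_formallyUnramified_of_flat _
  haveI : IsAffine (V : Scheme.{u}) := hV
  haveI : IsAffine (h ⁻¹ᵁ V : Scheme.{u}) := hV.preimage h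
  let A := Γ((V : Scheme.{u}), ⊤)
  let B := Γ((h ⁻¹ᵁ V : Scheme.{u}), ⊤)
  let φ : A ⟶ B := (h ∣_ V).appTop
  let E := (V : Scheme.{u}).isoSpec
  let E' := (h ⁻¹ᵁ V : Scheme.{u}).isoSpec
  have hE : h ∣_ V = E'.hom ≫ Spec.map φ ≫ E.inv := by
    rw [← Category.assoc, Iso.eq_comp_inv, Scheme.isoSpec_hom_naturality]
  have hφ : Etale (Spec.map φ) := by
    rw [show Spec.map φ = E'.inv ≫ (h ∣_ V) ≫ E.hom by rw [hE]; simp]
    infer_instance
  letI : Algebra A B := φ.hom.toAlgebra
  haveI : Algebra.Etale A B := (HasRingHomProperty.Spec_iff (P := @Etale)).1 hφ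
  haveI : _root_.IsReduced A := inferInstance
  haveI : Nontrivial A := by
    haveI : Nonempty (Spec A) := ⟨E.hom ⟨x, hxV⟩⟩
    exact PrimeSpectrum.nonempty_iff_nontrivial.1 ‹Nonempty (Spec A)›
  haveI : Algebra.QuasiFinite A B := by
    haveI := hφ
    haveI : LocallyQuasiFinite (Spec.map φ) := FpqcDescent.locallyQuasiFinite_of_etale _
    exact (HasRingHomProperty.Spec_iff (P := @LocallyQuasiFinite)).1 ‹_›
  obtain ⟨f, hf0, hf⟩ := exists_finite_away (A := A) (B := B)
  let D : (V : Scheme.{u}).Opens := E.hom ⁻¹ᵁ GenFree.specBasicOpen f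
  refine ⟨V.ι ''ᵁ D, ?_, ?_, ?_⟩
  · obtain ⟨p, hp⟩ : Set.Nonempty (PrimeSpectrum.basicOpen f : Set (PrimeSpectrum A)) := by
      rw [Set.nonempty_iff_ne_empty]
      intro he
      exact hf0 (by
        have := PrimeSpectrum.basicOpen_eq_bot_iff f |>.1 (TopologicalSpace.Opens.ext he)
        exact IsReduced.eq_zero _ this)
    exact ⟨_, E.inv p, show E.hom (E.inv p) ∈ _ by rw [← Scheme.Hom.comp_apply, Iso.inv_hom_id]; exact hp, rfl⟩
  · have h1 : IsFinite (Spec.map φ ∣_ GenFree.specBasicOpen f) :=
      (MorphismProperty.arrow_mk_iso_iff @IsFinite (SpecMapRestrictBasicOpenIso φ f)).2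
        ((IsFinite.SpecMap_iff _).2 hf)
    have h2 : IsFinite (((h ∣_ V) ≫ E.hom) ∣_ GenFree.specBasicOpen f) := by
      rw [show (h ∣_ V) ≫ E.hom = E'.hom ≫ Spec.map φ by rw [hE]; simp, GenFree.restrict_iso_comp (P := @IsFinite) E']
      exact h1
    rw [morphismRestrict_comp, MorphismProperty.cancel_right_of_respectsIso @IsFinite] at h2
    exact (MorphismProperty.arrow_mk_iso_iff @IsFinite (morphismRestrictRestrict h V D)).1 h2
  · exact GenFree.restrict_of_le (P := @Etale) h (V := V) (V.ι_image_le D) inferInstance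

end Groth.Agent.DMGeneric

end
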