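import Groth.Agent.AlgStLib.OpenSub

/-!
# Open substacks of fibred categories with smooth atlases, for any topology
-/

set_option autoImplicit false
set_option backward.isDefEq.respectTransparency false
set_option backward.isDefEq.respectTransparency.types false
set_option linter.style.haveILetI false
universe u

noncomputable section

namespace Groth.Agent.DMGeneric

open CategoryTheory CategoryTheory.Limits AlgebraicGeometry Opposite Groth.Agent.AlgSpLib Groth.Agent.StkBasic
  Groth.Agent.FibCatRep Groth.Agent.FibCat2Misc Groth.Agent.AlgStLib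
open _root_.AlgSp _root_.AlgSt

variable {S : Scheme.{u}} {𝒳 : AlgSt.Cat S}

/-- charts are continuous -/
theorem continuous_ofChart' (hS : FibCat.IsFibGrpd 𝒳.p) (hat : HasAtlas (LocP @Smooth) 𝒳) {U : Over S}
    (x : FibCat.overCat U ⥤ᵇ 𝒳) : Continuous (AlgSt.Points.ofChart x) := by
  refine continuous_def.2 fun O hO => ?_
  obtain ⟨V, y, hy, hy'⟩ := hat
  obtain ⟨W, a, b, ⟨i⟩, -, hP, hs⟩ := exists_pair_chart hS y x (repByAlgSp1_of_with hy)
  haveI : Smooth b.left := hP _ etST_smooth hy
  haveI := hs hy'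
  have e : AlgSt.Points.ofChart x ⁻¹' O = b.left '' (a.left ⁻¹' (AlgSt.Points.ofChart y ⁻¹' O)) := by
    ext s
    constructor
    · intro hsO
      obtain ⟨w, rfl⟩ := b.left.surjective s
      refine ⟨w, ?_, rfl⟩
      show AlgSt.Points.ofChart y (a.left w) ∈ O
      rw [← ofChart_overMap, ← ofChart_congr i, ofChart_overMap]
      exact hsO
    · rintro ⟨w, hw, rfl⟩
      show AlgSt.Points.ofChart x (b.left w) ∈ O
      rw [← ofChart_overMap, ofChart_congr i, ofChart_overMap]
      exact hw
  rw [e]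
  exact b.left.isOpenMap _ ((hO V y hy).preimage a.left.continuous)

/-- the inclusion of the objects with points in an open set is an open immersion -/
theorem isOpenImm_inSet' (hS : FibCat.IsFibGrpd 𝒳.p) (hat : HasAtlas (LocP @Smooth) 𝒳) {O : Set (AlgSt.Points 𝒳)} (hO : IsOpen O) :
    AlgSt.IsOpenImm (AlgSt.subIncl 𝒳 (InSet O)) := by
  intro U y
  let W : U.left.Opens := ⟨AlgSt.Points.ofChart y ⁻¹' O, hO.preimage (continuous_ofChart' hS hat y)⟩
  let U' : Over S := Over.mk (W.ι ≫ U.hom)
  let j : U' ⟶ U := Over.homMk W.ι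
  have hQ : ∀ o : (FibCat.overCat U').obj, InSet O ((BasedFunctor.comp (AlgSt.overMap j) y).obj o) := fun o => by
    refine (inSet_chart_iff hS O y ((AlgSt.overMap j).obj o)).2 fun t => ?_
    exact (o.hom.left t).2
  let L : FibCat.overCat U' ⥤ᵇ FibCat.fp y (AlgSt.subIncl 𝒳 (InSet O)) :=
    FibCat.fpLift (AlgSt.overMap j) (liftSub (InSet O) (BasedFunctor.comp (AlgSt.overMap j) y) hQ) (Iso.refl _)
  haveI : L.toFunctor.Faithful := ⟨fun {a b} m m' h => by
    have := congrArg (fun t => t.hom.fst.left) h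
    exact Over.OverMorphism.ext this⟩
  haveI : L.toFunctor.Full := ⟨fun {a b} n => by
    refine ⟨Over.homMk n.hom.fst.left ?_, ?_⟩
    · refine Over.OverMorphism.ext ((cancel_mono W.ι).1 ?_)
      have w := congrArg CommaMorphism.left (Over.w n.hom.fst)
      simpa [L, j, AlgSt.overMap, FibCat.fpLift] using w
    · refine ObjectProperty.hom_ext _ (CategoricalPullback.hom_ext (Over.OverMorphism.ext rfl) ?_)
      refine ObjectProperty.hom_ext _ ?_
      have w : y.map n.hom.fst ≫ (L.obj b).obj.iso.hom = (L.obj a).obj.iso.hom ≫ n.hom.snd.hom := n.hom.w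
      show y.map _ = n.hom.snd.hom
      simp [L, FibCat.fpLift] at w
      convert ((Category.comp_id _).symm.trans w).trans (Category.id_comp _) using 2
      exact Over.OverMorphism.ext rfl⟩
  have hL : FibCat.IsEquivOver L := by
    refine isEquivOver_of_fullyFaithful L fun η => ?_
    obtain ⟨h₁, h₂⟩ := map_iso_hom η
    have hin : InSet O (y.obj η.obj.fst) := η.obj.snd.property.of_hom η.obj.iso.hom
    have hr : Set.range η.obj.fst.hom.left ⊆ Set.range W.ι := by
      rintro _ ⟨t, rfl⟩
      rw [Scheme.Opens.range_ι]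
      exact (inSet_chart_iff hS O y η.obj.fst).1 hin t
    let g := IsOpenImmersion.lift W.ι η.obj.fst.hom.left hr
    have hg : g ≫ W.ι = η.obj.fst.hom.left := IsOpenImmersion.lift_fac _ _ _
    let ξ : (FibCat.overCat U').obj := Over.mk (Over.homMk g (by
      show g ≫ W.ι ≫ U.hom = η.obj.fst.left.hom
      rw [← Category.assoc, hg, Over.w η.obj.fst.hom]) : η.obj.fst.left ⟶ U')
    let a : (AlgSt.overMap j).obj ξ ≅ η.obj.fst := Over.isoMk (Iso.refl _) (by
      refine Over.OverMorphism.ext ?_
      simpa [ξ, j, AlgSt.overMap] using hg.symm)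
    let b : (liftSub (InSet O) (BasedFunctor.comp (AlgSt.overMap j) y) hQ).obj ξ ≅ η.obj.snd :=
      ObjectProperty.isoMk _ (y.toFunctor.mapIso a ≪≫ η.obj.iso)
    refine ⟨ξ, ObjectProperty.isoMk _ (CategoricalPullback.mkIso a b (by
      simp [L, b, liftSub, FibCat.fpLift, AlgSt.subIncl]
      exact (Category.id_comp _).symm)), rfl, ?_⟩
    show (FibCat.overCat U).p.map a.hom = _
    rfl
  refine ⟨spOf U', BasedFunctor.comp (AlgSt.toOverCat U') L, isEquivOver_comp (isEquivOver_toOverCat U') hL, ?_⟩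
  have hmap : AlgSt.spMapOfOver (BasedFunctor.comp (BasedFunctor.comp (AlgSt.toOverCat U') L)
      (FibCat.fpFst y (AlgSt.subIncl 𝒳 (InSet O)))) = (yon S).map j :=
    ObjectProperty.hom_ext _ (by ext T x; apply ULift.ext; rfl)
  rw [hmap]
  exact (repWith_yon_iff _).2 (inferInstanceAs (IsOpenImmersion W.ι))


end Groth.Agent.DMGeneric

end
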