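import Groth.Agent.DMGeneric.FiniteOpen
import Groth.Agent.DMGeneric.OpenImm
import Groth.Agent.GerbDense.Main
import Groth.Agent.AlgStLib.StacksEt
import Groth.Agent.AlgStLib.Props
import Groth.Agent.AlgSpLib.FpqcList
import Groth.Agent.AlgSpLib.FpqcProps

/-!
# Reduced DM stacks with affine diagonal have finite etale inertia over a nonempty open
-/

set_option autoImplicit false
set_option backward.isDefEq.respectTransparency false
set_option backward.isDefEq.respectTransparency.types false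
set_option linter.style.haveILetI false
universe u

noncomputable section

namespace Groth.Agent.DMGeneric

open CategoryTheory CategoryTheory.Limits AlgebraicGeometry Groth.Agent.AlgSpLib Groth.Agent.StkBasic
  Groth.Agent.FibCatRep Groth.Agent.FibCat2Misc Groth.Agent.AlgStLib
open _root_.AlgSp _root_.AlgSt

variable {S : Scheme.{u}} {𝒳 : AlgSt.Cat S}

local notation "IX" => FibCat.inertiaToBase (FibCat.toSelf 𝒳)
local notation "FinEt" => (AlgSp.IsFiniteMor ⊓ AlgSp.IsEtaleMor : MorphismProperty (Sp S))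

theorem isFiniteMor_eq : (AlgSp.IsFiniteMor : MorphismProperty (Sp S)) = RepWith @IsFinite := by
  ext X Y f
  exact isFiniteMor_iff_repWith f

theorem isAffineMor_eq : (AlgSp.IsAffineMor : MorphismProperty (Sp S)) = RepWith @IsAffineHom := by
  ext X Y f
  exact isAffineMor_iff_repWith f

theorem bcStable_finEt : BCStable FinEt :=
  fun _ _ _ _ h₁ h₂ h₃ h₄ _ _ _ _ sq h =>
    ⟨isFiniteMor_eq (S := S) ▸ AlgSpLib.repWith_baseChange sq (isFiniteMor_eq (S := S) ▸ h.1),
      AlgStLib.cls_etale.bc h₁ h₂ h₃ h₄ _ _ _ _ sq h.2⟩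

theorem isLocalOnBase_finEt : IsLocalOnBase (IsFppfCover (S := S)) FinEt :=
  isLocalOnBase_fppf (isLocalOnBase_and
    (isFiniteMor_eq (S := S) ▸ isLocalOnBase_repWith @IsFinite
      fun _ _ q h => by have : IsFinite q := h; exact indQA_of_isAffineHom q)
    isLocalOnBase_isEtaleMor)

set_option maxHeartbeats 1000000 in
/-- a chart of a reduced DM stack with affine diagonal has finite etale inertia over a nonempty open -/
theorem exists_open_finEt_inertia (hΔ : RepByAlgSpWith AlgSp.IsAffineMor (FibCat.diag (FibCat.toSelf 𝒳)))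
    (hu : AlgSt.IsDMOver 𝒳) {U : Over S} [IsReduced U.left] [Nonempty U.left]
    (x : AlgSt.ofSp (spOf U).obj ⥤ᵇ 𝒳) :
    ∃ O : U.left.Opens, (O : Set U.left).Nonempty ∧
      RepByAlgSpWith FinEt
        (FibCat.fpFst (BasedFunctor.comp (Stk.ofPshMap ((yon S).map (GerbDense.openIncl U O)).hom) x) IX) := by
  have hcU := cls_locP (S := S) etST_unramified (isLocalOnBase_locP etST_unramified)
  haveI := respectsIso_onSp hcU.bc
  have hbA : BCStable (AlgSp.IsAffineMor : MorphismProperty (Sp S)) := isAffineMor_eq (S := S) ▸ bcStable_repWith _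
  haveI := respectsIso_onSp hbA
  obtain ⟨P, e, he, hs, hP, haff⟩ :=
    (AlgStLib.repWith_iff _ IX).1 (repWith_onSp_iff.2 (repWith_inertia_of_diag hΔ)) U x
  obtain ⟨_, _, hunr⟩ := good_of_model (repWith_onSp_iff.2 (repWith_inertia_of_diag hu)) he
  have hU := IsAlgSpace.yon_obj (S := S) U
  let π : (⟨P, hs⟩ : Sp S) ⟶ (yon S).obj U := ObjectProperty.homMk (prjMap e)
  have hπ : RepWith @IsAffineHom π := (isAffineMor_iff_repWith π).1 (haff hP hU)
  obtain ⟨W, fst, i, sqi, hi⟩ := exists_repWith hπ (𝟙 _)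
  haveI : IsIso ((yon S).map (𝟙 U)) := inferInstance
  haveI : IsIso fst := MorphismProperty.of_isPullback (P := MorphismProperty.isomorphisms (Sp S)) sqi.flip
    (inferInstanceAs (IsIso (𝟙 _)))
  haveI : IsAffineHom i.left := hi
  have hfst : fst ≫ π = (yon S).map i := by rw [sqi.w, Category.comp_id]
  obtain ⟨hft, hfu⟩ : (@LocallyOfFiniteType ⊓ @FormallyUnramified : MorphismProperty Scheme.{u}) i.left :=
    hunr hP hU fst (𝟙 _) i (repWith_of_isIso fst) (AlgSp.repWith_id _ U) (by rw [Category.comp_id, hfst])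
  haveI := hft
  haveI := hfu
  obtain ⟨O, hO, hfin, het⟩ := exists_finite_etale_restrict i.left
  refine ⟨O, hO, ?_⟩
  let m := GerbDense.openIncl U O
  let WO : Over S := GerbDense.openOver W (i.left ⁻¹ᵁ O)
  let iO : WO ⟶ GerbDense.openOver U O := Over.homMk (i.left ∣_ O) (by
    show (i.left ∣_ O) ≫ O.ι ≫ U.hom = (i.left ⁻¹ᵁ O).ι ≫ W.hom
    rw [morphismRestrict_ι_assoc, Over.w i])
  have sqO : IsPullback ((yon S).map (GerbDense.openIncl W (i.left ⁻¹ᵁ O)) ≫ fst) ((yon S).map iO) π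
      ((yon S).map m) := by
    have h1 : IsPullback ((yon S).map (GerbDense.openIncl W (i.left ⁻¹ᵁ O))) ((yon S).map iO) ((yon S).map i)
        ((yon S).map m) := isPullback_yon_iff.2 (isPullback_morphismRestrict i.left O).flip
    simpa using h1.paste_horiz sqi
  let V : AlgSp.Space S := spOf WO
  let a : V ⟶ spOf (GerbDense.openOver U O) := ObjectProperty.homMk ((yon S).map iO)
  have ha : FinEt a.hom :=
    ⟨(isFiniteMor_iff_repWith _).2 ((repWith_yon_iff _).2 hfin),
      (isEtaleMor_iff_locP (IsAlgSpace.yon_obj _)).2 ((locP_yon_iff etST_etale _).2 het)⟩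
  obtain ⟨e', he', hprj⟩ := exists_model_baseChange ((yon S).map m).hom he
    (sqO.map (sheafToPresheaf (J S) (Type (u + 1))))
  let j : BasedFunctor.comp e' (FibCat.fpFst (BasedFunctor.comp (Stk.ofPshMap ((yon S).map m).hom) x) IX) ≅
      AlgSt.ofSpMap a.hom := (mapOfIso _).symm ≪≫ eqToIso (congrArg (fun k => Stk.ofPshMap k) hprj)
  exact repWith_fpFst_of_model (V := V) (W := spOf (GerbDense.openOver U O)) bcStable_finEt he' j ha

set_option maxHeartbeats 1000000 in
/-- a reduced DM stack with affine diagonal has a nonempty open substack with finite etale inertia -/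
theorem exists_open_substack (hS : FibCat.IsFibGrpd 𝒳.p) (hat : HasAtlas (LocP @Smooth) 𝒳)
    (hΔ : RepByAlgSpWith AlgSp.IsAffineMor (FibCat.diag (FibCat.toSelf 𝒳))) (hu : AlgSt.IsDMOver 𝒳)
    (hred : AlgSt.SmoothLocally (fun T => IsReduced T) 𝒳) (hne : Nonempty (AlgSt.Points 𝒳)) :
    ∃ O : Set (AlgSt.Points 𝒳), AlgSt.IsOpenImm (AlgSt.subIncl 𝒳 (InSet O)) ∧
      Nonempty (AlgSt.Points (AlgSt.fullSub 𝒳 (InSet O))) ∧
      RepByAlgSpWith FinEt (FibCat.inertiaToBase (FibCat.toSelf (AlgSt.fullSub 𝒳 (InSet O)))) := by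
  obtain ⟨U, x, hx, hxs⟩ := exists_atlas hat
  haveI : IsReduced U.left := hred U (BasedFunctor.comp (ofOverCat U) x) ((repWith_ofOverCat_iff _ x).2 hx)
  obtain ⟨p₀⟩ := hne
  haveI : Nonempty U.left :=
    ⟨(exists_point_of_surjective hS _ ((repWith_ofOverCat_iff _ x).2 hxs) p₀).choose⟩
  obtain ⟨Ω, hΩ, hI⟩ := exists_open_finEt_inertia hΔ hu x
  let U' := GerbDense.openOver U Ω
  let x' : AlgSt.ofSp (spOf U').obj ⥤ᵇ 𝒳 :=
    BasedFunctor.comp (Stk.ofPshMap ((yon S).map (GerbDense.openIncl U Ω)).hom) x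
  have hj : RepWith @Etale ((yon S).map (GerbDense.openIncl U Ω)) :=
    (repWith_yon_iff _).2 (inferInstanceAs (Etale Ω.ι))
  have hx' : RepByAlgSpWith (LocP @Smooth) x' :=
    AlgStLib.repWith_comp (isFibGrpd_ofSpace _) (isFibGrpd_ofSpace _) cls_smooth.bc cls_smooth.comp cls_smooth.loc
      (repWith_smooth_ofPshMap_of_etale (IsAlgSpace.yon_obj U') (IsAlgSpace.yon_obj U) _ hj) hx
  have hfl : RepByAlgSpWith (LocP @Flat) x' :=
    AlgStLib.repWith_mono hx' fun _ _ a _ ha => locP_mono (fun _ _ r hr => by haveI : Smooth r := hr; infer_instance) a ha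
  have hfp : RepByAlgSpWith (LocP @LocallyOfFinitePresentation) x' :=
    AlgStLib.repWith_mono hx' fun _ _ a _ ha => locP_mono (fun _ _ r hr => by haveI : Smooth r := hr; infer_instance) a ha
  let O : Set (AlgSt.Points 𝒳) := Set.range (AlgSt.Points.map x')
  have hO : IsOpen O := (isOpenMap_map_space (U := spOf U') hS x' hfl hfp).isOpen_range
  have hA : FibCat.IsFibGrpd (AlgSt.fullSub 𝒳 (InSet O)).p := isFibGrpd_fullSub hS fun m h => h.of_hom m
  refine ⟨O, isOpenImm_inSet' hS hat hO, ?_, ?_⟩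
  · obtain ⟨t, ht⟩ := hΩ
    obtain ⟨q, -⟩ : AlgSt.Points.map x' (stPts _ (AlgSp.Points.ofScheme U' ⟨t, ht⟩)) ∈
        Set.range (AlgSt.Points.map (AlgSt.subIncl 𝒳 (InSet O))) := by
      rw [range_subIncl_inSet]; exact ⟨_, rfl⟩
    exact ⟨q⟩
  let w : AlgSt.ofSp (spOf U').obj ⥤ᵇ AlgSt.fullSub 𝒳 (InSet O) :=
    liftSub (InSet O) x' fun a => inSet_range_map (isFibGrpd_ofSpace _) hS x' a
  have hw : RepByAlgSpWith (LocP @Smooth) w := repWith_of_comp_ff _ (i := AlgSt.subIncl 𝒳 (InSet O)) hx'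
  have hws : RepByAlgSpWith AlgSp.IsSurjectiveMor w := by
    refine repWith_surjective_of_isSurjective (isFibGrpd_ofSpace _) hA (repByAlgSp1_of_with hw) fun z => ?_
    have hz : AlgSt.Points.map (AlgSt.subIncl 𝒳 (InSet O)) z ∈ O :=
      (range_subIncl_inSet O).subset ⟨z, rfl⟩
    obtain ⟨q, hq⟩ := hz
    exact ⟨q, injective_map_subIncl hS (fun m h => h.of_hom m) ((map_comp_points _ _ q).symm.trans hq)⟩
  let i := AlgSt.subIncl 𝒳 (InSet O)
  refine (GerbDense.repWith_inertia_fullSub_iff (InSet O)).1 (repWith_of_lifts bcStable_finEt isLocalOnBase_finEt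
    (repByAlgSp1_fpFst IX i (repByAlgSp1_of_with (repWith_inertia_of_diag hΔ)))
    (lifts_of_fppf (AlgStLib.repWith_mono hw fun _ _ a _ ha => locP_mono (fun _ _ r hr => by haveI : Smooth r := hr; infer_instance) a ha)
      (AlgStLib.repWith_mono hw fun _ _ a _ ha => locP_mono (fun _ _ r hr => by haveI : Smooth r := hr; infer_instance) a ha) hws) ?_)
  exact (repWith_iff_of_equiv FinEt (FibCat.fpFst (BasedFunctor.comp w i) IX) (FibCat.fpFst w (FibCat.fpFst i IX))
    (pasteFun w i IX) (BasedFunctor.id _) (isEquivOver_pasteFun w i IX) isEquivOver_id (Iso.refl _)).1 hI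

end Groth.Agent.DMGeneric

end
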